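import Mathlib
import Groth.Prelude.Def_W4c3perfectstacksMV

/-!
Mayer–Vietoris squares of triangulated categories: locality of the third vertex, Mayer–Vietoris
triangles, their uniqueness and naturality, glueing.
-/

set_option autoImplicit false
set_option linter.style.haveILetI false
set_option linter.unusedSectionVars false
set_option backward.isDefEq.respectTransparency false
set_option backward.isDefEq.respectTransparency.types false

universe v u

open CategoryTheory Category Limits Pretriangulated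

namespace Groth.Agent.MVSqLib

variable {S S' R R' : Type u} [Category.{v} S] [Category.{v} S'] [Category.{v} R] [Category.{v} R']

section Plain

variable (q : W4c3perfectstacks.MVSq S S' R R')

theorem bcApp_natural {M M' : S'} (m : M ⟶ M') :
    q.jst.map (q.fls.map m) ≫ q.bcApp M' = q.bcApp M ≫ q.gls.map (q.jpst.map m) := by
  have h1 := q.adjG.unit.naturality (q.jst.map (q.fls.map m))
  have h2 := q.e.hom.naturality (q.fls.map m)
  simp only [Functor.id_map, Functor.comp_map] at h1 h2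
  simp only [W4c3perfectstacks.MVSq.bcApp, assoc, ← Functor.map_comp]
  rw [reassoc_of% h1]
  simp only [← Functor.map_comp]
  rw [reassoc_of% h2]
  simp only [← Functor.map_comp, Adjunction.counit_naturality]

theorem isIso_jst_fls (hbc : ∀ M, IsIso (q.bcApp M)) {M M' : S'} (m : M ⟶ M')
    [IsIso (q.jpst.map m)] : IsIso (q.jst.map (q.fls.map m)) := by
  haveI := hbc M
  haveI := hbc M'
  have : IsIso (q.jst.map (q.fls.map m) ≫ q.bcApp M') := by
    rw [bcApp_natural]; infer_instance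
  exact IsIso.of_isIso_comp_right _ (q.bcApp M')

theorem isIso_jpst_fst {X Y : S} (h : X ⟶ Y) [IsIso (q.jst.map h)] :
    IsIso (q.jpst.map (q.fst.map h)) := by
  have : IsIso ((q.fst ⋙ q.jpst).map h) := (NatIso.isIso_map_iff q.e h).1 (by
    change IsIso (q.gst.map (q.jst.map h)); infer_instance)
  exact this

theorem isIso_jst_unit (hq : q.IsMV) (N : S) : IsIso (q.jst.map (q.adjJ.unit.app N)) := by
  haveI := hq.isIso_counitJ
  have : IsIso (q.jst.map (q.adjJ.unit.app N) ≫ q.adjJ.counit.app (q.jst.obj N)) := by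
    rw [show q.jst.map (q.adjJ.unit.app N) ≫ q.adjJ.counit.app (q.jst.obj N) = 𝟙 _ from
      q.adjJ.left_triangle_components N]; infer_instance
  exact IsIso.of_isIso_comp_right _ (q.adjJ.counit.app (q.jst.obj N))

theorem isIso_jpst_unit (hq : q.IsMV) (N : S') : IsIso (q.jpst.map (q.adjJp.unit.app N)) := by
  haveI := hq.isIso_counitJp
  have : IsIso (q.jpst.map (q.adjJp.unit.app N) ≫ q.adjJp.counit.app (q.jpst.obj N)) := by
    rw [show q.jpst.map (q.adjJp.unit.app N) ≫ q.adjJp.counit.app (q.jpst.obj N) = 𝟙 _ from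
      q.adjJp.left_triangle_components N]; infer_instance
  exact IsIso.of_isIso_comp_right _ (q.adjJp.counit.app (q.jpst.obj N))

/-- `f_* j'_*` agrees with `j_* g_*`. -/
noncomputable def localIso (Z : R') : q.fls.obj (q.jpls.obj Z) ≅ q.jls.obj (q.gls.obj Z) :=
  (Adjunction.rightAdjointUniq (q.adjF.comp q.adjJp) ((q.adjJ.comp q.adjG).ofNatIsoLeft q.e)).app Z

/-- The third vertex is `j`-local. -/
noncomputable def thirdIso (hq : q.IsMV) (X : R) :
    q.fls.obj (q.fst.obj (q.jls.obj X)) ≅ q.jls.obj (q.gls.obj (q.gst.obj X)) :=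
  haveI := hq.isIso_bc2App X
  q.fls.mapIso (asIso (q.bc2App X)) ≪≫ localIso q _

theorem third_hom_ext (hq : q.IsMV) {Y : S} {X : R} {h h' : Y ⟶ q.fls.obj (q.fst.obj (q.jls.obj X))}
    (H : q.jst.map h = q.jst.map h') : h = h' := by
  rw [← cancel_mono (thirdIso q hq X).hom]
  apply (q.adjJ.homEquiv _ _).symm.injective
  simp [Adjunction.homEquiv_counit, H]

theorem third_orth [HasZeroMorphisms S] (hq : q.IsMV) {K : S} (hK : IsZero (q.jst.obj K)) {X : R}
    (h : K ⟶ q.fls.obj (q.fst.obj (q.jls.obj X))) : h = 0 :=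
  third_hom_ext q hq (hK.eq_of_src _ _)

theorem isZero_gls [Preadditive R] {Z : R'} (hZ : IsZero Z) : IsZero (q.gls.obj Z) := by
  rw [IsZero.iff_id_eq_zero]
  apply (q.adjG.homEquiv _ _).symm.injective
  exact hZ.eq_of_tgt _ _

theorem transpose_comp {N : S} {M M' : S'} (x : N ⟶ q.fls.obj M) (m : M ⟶ M') :
    (q.adjF.homEquiv N M').symm (x ≫ q.fls.map m) = (q.adjF.homEquiv N M).symm x ≫ m := by
  rw [Adjunction.homEquiv_naturality_right_symm]

/-- The unit of `j`, with plain source and target. -/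
def etaJ (N : S) : N ⟶ q.jls.obj (q.jst.obj N) := q.adjJ.unit.app N

/-- The unit of `f`, with plain source and target. -/
def etaF (N : S) : N ⟶ q.fls.obj (q.fst.obj N) := q.adjF.unit.app N

@[reassoc]
theorem etaJ_nat {N N' : S} (φ : N ⟶ N') :
    φ ≫ etaJ q N' = etaJ q N ≫ q.jls.map (q.jst.map φ) := q.adjJ.unit.naturality φ

@[reassoc]
theorem etaF_nat {N N' : S} (φ : N ⟶ N') :
    φ ≫ etaF q N' = etaF q N ≫ q.fls.map (q.fst.map φ) := q.adjF.unit.naturality φ

theorem homEquivJ {N : S} {Z : R} (φ : q.jst.obj N ⟶ Z) :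
    q.adjJ.homEquiv N Z φ = etaJ q N ≫ q.jls.map φ := q.adjJ.homEquiv_unit _ _ _

theorem homEquivF {N : S} {Z : S'} (φ : q.fst.obj N ⟶ Z) :
    q.adjF.homEquiv N Z φ = etaF q N ≫ q.fls.map φ := q.adjF.homEquiv_unit _ _ _

theorem isIso_jst_etaJ (hq : q.IsMV) (N : S) : IsIso (q.jst.map (etaJ q N)) := isIso_jst_unit q hq N

theorem isIso_etaF (hq : q.IsMV) {N : S} (h : IsZero (q.jst.obj N)) : IsIso (etaF q N) :=
  hq.isIso_unitF N h

end Plain

section Triangulated

variable [Preadditive S] [Preadditive S'] [Preadditive R] [Preadditive R'] [HasZeroObject S]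
  [HasZeroObject S'] [HasZeroObject R] [HasZeroObject R'] [HasShift S ℤ] [HasShift S' ℤ]
  [HasShift R ℤ] [HasShift R' ℤ] [∀ n : ℤ, (shiftFunctor S n).Additive]
  [∀ n : ℤ, (shiftFunctor S' n).Additive] [∀ n : ℤ, (shiftFunctor R n).Additive]
  [∀ n : ℤ, (shiftFunctor R' n).Additive] [Pretriangulated S] [Pretriangulated S']
  [Pretriangulated R] [Pretriangulated R'] [IsTriangulated S]
  (q : W4c3perfectstacks.MVSq S S' R R') [q.jst.CommShift ℤ] [q.fst.CommShift ℤ]
  [q.jpst.CommShift ℤ] [q.jst.IsTriangulated] [q.fst.IsTriangulated] [q.jpst.IsTriangulated]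
  (hq : q.IsMV)

include hq

local notation "uJ" => etaJ q
local notation "uF" => etaF q

theorem jst_shift_isZero {K : S} (hK : IsZero (q.jst.obj K)) (n : ℤ) :
    IsZero (q.jst.obj (K⟦n⟧)) :=
  ((shiftFunctor R n).map_isZero hK).of_iso ((q.jst.commShiftIso n).app K)

theorem third_orth_shift {K : S} (hK : IsZero (q.jst.obj K)) {X : R} (n : ℤ)
    (h : K ⟶ (q.fls.obj (q.fst.obj (q.jls.obj X)))⟦n⟧) : h = 0 := by
  apply (shiftFunctor S (-n)).map_injective
  rw [Functor.map_zero, ← cancel_mono ((shiftFunctorCompIsoId S n (-n) (add_neg_cancel n)).hom.app _),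
    zero_comp]
  exact third_orth q hq (jst_shift_isZero q hq hK _) _

theorem isIso_jst_ff_unit (N : S) :
    IsIso (q.jst.map (q.fls.map (q.fst.map (uJ N)))) := by
  haveI := isIso_jst_etaJ q hq N
  haveI := isIso_jpst_fst q (uJ N)
  exact isIso_jst_fls q hq.isIso_bcApp _

theorem ext_from_ff {N : S} {X : R}
    {g g' : q.fls.obj (q.fst.obj (q.jls.obj (q.jst.obj N))) ⟶ q.fls.obj (q.fst.obj (q.jls.obj X))}
    (h : q.fls.map (q.fst.map (uJ N)) ≫ g = q.fls.map (q.fst.map (uJ N)) ≫ g') : g = g' := by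
  haveI := isIso_jst_ff_unit q hq N
  refine third_hom_ext q hq ?_
  rw [← cancel_epi (q.jst.map (q.fls.map (q.fst.map (uJ N)))), ← Functor.map_comp, h,
    Functor.map_comp]

omit hq in
theorem biprod_fst_distinguished (A F : S) :
    Triangle.mk (biprod.fst : A ⊞ F ⟶ A) (0 : A ⟶ F⟦(1 : ℤ)⟧)
      (-(biprod.inr : F ⟶ A ⊞ F)⟦(1 : ℤ)⟧') ∈ distTriang S := by
  have h : Triangle.mk (biprod.inr : F ⟶ A ⊞ F) (biprod.fst : A ⊞ F ⟶ A)
      (0 : A ⟶ F⟦(1 : ℤ)⟧) ∈ distTriang S :=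
    isomorphic_distinguished _ (binaryBiproductTriangle_distinguished F A) _
      (Triangle.isoMk _ _ (Iso.refl _) (biprod.braiding A F) (Iso.refl _)
        (by apply biprod.hom_ext <;> simp [biprod.braiding])
        (by simp [biprod.braiding]; exact (biprod.lift_snd _ _).symm) (by simp))
  exact rot_of_distTriang _ h

theorem exists_mv (N : S) :
    ∃ d : q.fls.obj (q.fst.obj (q.jls.obj (q.jst.obj N))) ⟶ N⟦(1 : ℤ)⟧,
      Triangle.mk (biprod.lift (uJ N) (uF N))
        (biprod.desc (uF (q.jls.obj (q.jst.obj N))) (-(q.fls.map (q.fst.map (uJ N))))) d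
          ∈ distTriang S := by
  letI := q.adjF.rightAdjointCommShift ℤ
  haveI := q.adjF.commShift_of_leftAdjoint ℤ
  haveI : q.fls.IsTriangulated := q.adjF.isTriangulated_rightAdjoint
  let A := q.jls.obj (q.jst.obj N)
  obtain ⟨C, ι, dC, hC⟩ := distinguished_cocone_triangle (biprod.lift (uJ N) (uF N))
  obtain ⟨Q, x, y, hQ⟩ := distinguished_cocone_triangle (uJ N)
  obtain ⟨oct⟩ : Nonempty (Triangulated.Octahedron (biprod.lift_fst (uJ N) (uF N)) hC
    (biprod_fst_distinguished A (q.fls.obj (q.fst.obj N))) hQ) :=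
    ⟨Triangulated.someOctahedron (biprod.lift_fst _ _) hC
      (biprod_fst_distinguished A (q.fls.obj (q.fst.obj N))) hQ⟩
  have hjQ : IsZero (q.jst.obj Q) := by
    haveI := isIso_jst_etaJ q hq N
    exact (Triangle.isZero₃_iff_isIso₁ _ (q.jst.map_distinguished _ hQ)).2
      (inferInstanceAs (IsIso (q.jst.map (uJ N))))
  have hm3 : oct.m₃ = -(y ≫ (uF N)⟦(1 : ℤ)⟧') := by
    have h := congrArg (fun z => z ≫ (biprod.snd : A ⊞ q.fls.obj (q.fst.obj N) ⟶ _)⟦(1 : ℤ)⟧')
      oct.comm₄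
    simp only [assoc, Preadditive.neg_comp, Preadditive.comp_neg, ← Functor.map_comp,
      biprod.inr_snd, Functor.map_id, comp_id] at h
    rw [show biprod.lift (uJ N) (uF N) ≫ biprod.snd = uF N from biprod.lift_snd _ _,
      CategoryTheory.Functor.map_id, comp_id] at h
    rw [h, neg_neg]
  let P := q.fls.map (q.fst.map (uJ N))
  have hz : biprod.lift (uJ N) (uF N) ≫ biprod.desc (uF A) (-P) = 0 := by
    simp [biprod.lift_desc, A, P, etaF_nat q (uJ N)]
  obtain ⟨w, hw⟩ := Triangle.yoneda_exact₂ _ hC (biprod.desc (uF A) (-P)) hz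
  replace hw : biprod.desc (uF A) (-P) = ι ≫ w := hw
  let x' : q.fls.obj (q.fst.obj A) ⟶ q.fls.obj (q.fst.obj Q) := q.fls.map (q.fst.map x)
  let y' : q.fls.obj (q.fst.obj Q) ⟶ (q.fls.obj (q.fst.obj N))⟦(1 : ℤ)⟧ :=
    q.fls.map (q.fst.map y) ≫ ((q.fst ⋙ q.fls).commShiftIso (1 : ℤ)).hom.app N
  have hT₂ : Triangle.mk x' y' (-(P⟦(1 : ℤ)⟧')) ∈ distTriang S :=
    rot_of_distTriang _ ((q.fst ⋙ q.fls).map_distinguished _ hQ)
  let w₁ : C ⟶ q.fls.obj (q.fst.obj A) := w
  let z : (q.fls.obj (q.fst.obj N))⟦(1 : ℤ)⟧ ⟶ C⟦(1 : ℤ)⟧ :=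
    (-(biprod.inr : _ ⟶ A ⊞ q.fls.obj (q.fst.obj N))⟦(1 : ℤ)⟧') ≫ ι⟦(1 : ℤ)⟧'
  have hT₁ : Triangle.mk oct.m₁ oct.m₃ z ∈ distTriang S := oct.mem
  have h2 : (biprod.inr : _ ⟶ A ⊞ q.fls.obj (q.fst.obj N)) ≫ ι ≫ w₁ = -P := by
    change biprod.inr ≫ ι ≫ w = -P
    rw [← hw, biprod.inr_desc]
  have hcomm : z ≫ w₁⟦(1 : ℤ)⟧' = (-𝟙 _) ≫ (-(P⟦(1 : ℤ)⟧')) := by
    simp only [z, Preadditive.neg_comp, ← Functor.map_comp, assoc]
    rw [h2, Functor.map_neg]
    simp
  obtain ⟨t, ht₁, ht₂⟩ : ∃ t : Q ⟶ q.fls.obj (q.fst.obj Q),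
      oct.m₁ ≫ t = w₁ ≫ x' ∧ oct.m₃ ≫ (-𝟙 _) = t ≫ y' :=
    complete_distinguished_triangle_morphism₂ _ _ hT₁ hT₂ w₁ (-𝟙 _) hcomm
  haveI : IsIso t := by
    suffices h : t = uF Q by
      rw [h]; exact isIso_etaF q hq hjQ
    have hQN : (t - uF Q) ≫ y' = 0 := by
      rw [Preadditive.sub_comp, ← ht₂, sub_eq_zero, hm3]
      simp only [y', Preadditive.comp_neg, Preadditive.neg_comp, comp_id, neg_neg]
      rw [← etaF_nat_assoc]
      exact congrArg (fun z => y ≫ z) (q.adjF.unit_app_commShiftIso_hom_app ℤ (1 : ℤ) N).symm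
    obtain ⟨s, hs⟩ : ∃ s : Q ⟶ q.fls.obj (q.fst.obj A), t - uF Q = s ≫ x' :=
      Triangle.coyoneda_exact₂ _ hT₂ (t - uF Q) hQN
    rw [third_orth q hq hjQ s, zero_comp] at hs
    exact sub_eq_zero.1 hs
  let φ : Triangle.mk oct.m₁ oct.m₃ z ⟶ Triangle.mk x' y' (-(P⟦(1 : ℤ)⟧')) :=
    { hom₁ := w₁, hom₂ := t, hom₃ := -𝟙 _, comm₁ := ht₁, comm₂ := ht₂, comm₃ := hcomm }
  haveI : IsIso w :=
    isIso₁_of_isIso₂₃ φ hT₁ hT₂ (inferInstanceAs (IsIso t))
      (⟨-𝟙 _, by simp [φ], by simp [φ]⟩ : IsIso φ.hom₃)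
  refine ⟨inv w ≫ dC, isomorphic_distinguished _ hC _
    (Triangle.isoMk _ _ (Iso.refl _) (Iso.refl _) (asIso w).symm ?_ ?_ ?_)⟩
  · simp
  · simp [hw, P, A]
  · simp

theorem mv_hom_eq {N₁ N₂ : S} (φ : N₁ ⟶ N₂)
    {d₁ : q.fls.obj (q.fst.obj (q.jls.obj (q.jst.obj N₁))) ⟶ N₁⟦(1 : ℤ)⟧}
    {d₂ : q.fls.obj (q.fst.obj (q.jls.obj (q.jst.obj N₂))) ⟶ N₂⟦(1 : ℤ)⟧}
    (h₁ : Triangle.mk (biprod.lift (uJ N₁) (uF N₁))
      (biprod.desc (uF (q.jls.obj (q.jst.obj N₁))) (-(q.fls.map (q.fst.map (uJ N₁))))) d₁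
        ∈ distTriang S)
    (h₂ : Triangle.mk (biprod.lift (uJ N₂) (uF N₂))
      (biprod.desc (uF (q.jls.obj (q.jst.obj N₂))) (-(q.fls.map (q.fst.map (uJ N₂))))) d₂
        ∈ distTriang S) :
    d₁ ≫ φ⟦(1 : ℤ)⟧' = q.fls.map (q.fst.map (q.jls.map (q.jst.map φ))) ≫ d₂ := by
  have hJ := etaJ_nat q φ
  have hF := etaF_nat q φ
  let m := biprod.map (q.jls.map (q.jst.map φ)) (q.fls.map (q.fst.map φ))
  obtain ⟨t, ht₁, ht₂⟩ := complete_distinguished_triangle_morphism _ _ h₁ h₂ φ m (by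
    dsimp [m]; apply biprod.hom_ext <;> simp [hJ, hF])
  have ht : t = q.fls.map (q.fst.map (q.jls.map (q.jst.map φ))) := by
    refine ext_from_ff q hq ?_
    have h := congrArg (fun z => biprod.inr ≫ z) ht₁
    simp only [Triangle.mk_mor₂, biprod.inr_desc_assoc, m, biprod.inr_map_assoc, biprod.inr_desc,
      Preadditive.neg_comp, Preadditive.comp_neg, neg_inj] at h
    refine h.trans ?_
    simp only [← Functor.map_comp, hJ]
  rw [← ht]
  exact ht₂

theorem existsUnique_mv (N : S) :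
    ∃! d : q.fls.obj (q.fst.obj (q.jls.obj (q.jst.obj N))) ⟶ N⟦(1 : ℤ)⟧,
      Triangle.mk (biprod.lift (uJ N) (uF N))
        (biprod.desc (uF (q.jls.obj (q.jst.obj N))) (-(q.fls.map (q.fst.map (uJ N))))) d
          ∈ distTriang S := by
  obtain ⟨d, hd⟩ := exists_mv q hq N
  refine ⟨d, hd, fun d' hd' => ?_⟩
  have := mv_hom_eq q hq (𝟙 N) hd' hd
  simpa using this

theorem fst_map_bijective {M : S'} (hM : IsZero (q.jpst.obj M)) (N : S) :
    Function.Bijective (fun g : q.fls.obj M ⟶ N => q.fst.map g) := by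
  have hK : IsZero (q.jst.obj (q.fls.obj M)) := by
    haveI := hq.isIso_bcApp M
    exact IsZero.of_iso (isZero_gls q hM) (asIso (q.bcApp M))
  obtain ⟨d, hd⟩ := exists_mv q hq N
  constructor
  · intro g g' hgg
    rw [← sub_eq_zero]
    have h1 : (g - g') ≫ biprod.lift (uJ N) (uF N) = 0 := by
      apply biprod.hom_ext
      · simp only [assoc, biprod.lift_fst, zero_comp]
        exact (q.adjJ.homEquiv _ _).symm.injective (hK.eq_of_src _ _)
      · simp only [assoc, biprod.lift_snd, zero_comp]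
        apply (q.adjF.homEquiv _ _).symm.injective
        simp only [Adjunction.homEquiv_counit, Functor.map_comp, Functor.map_sub, Functor.map_zero,
          zero_comp, assoc]
        rw [show q.fst.map g = q.fst.map g' from hgg, sub_self, zero_comp]
    obtain ⟨s, hs⟩ := Triangle.coyoneda_exact₂ _ (inv_rot_of_distTriang _ hd) (g - g') h1
    have hs0 : s = 0 := third_orth_shift q hq hK (-1) s
    exact hs.trans (by rw [hs0]; exact zero_comp)
  · intro h
    have h1 : biprod.lift (0 : q.fls.obj M ⟶ _) (q.adjF.homEquiv _ _ h) ≫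
        biprod.desc (uF (q.jls.obj (q.jst.obj N))) (-(q.fls.map (q.fst.map (uJ N)))) = 0 :=
      third_orth q hq hK _
    obtain ⟨g, hg⟩ := Triangle.coyoneda_exact₂ _ hd _ h1
    refine ⟨g, (q.adjF.homEquiv _ _).injective ?_⟩
    have h2 : q.adjF.homEquiv _ _ h = g ≫ uF N := by
      simpa using congrArg (fun z => z ≫ biprod.snd) hg
    rw [h2, homEquivF]
    exact (etaF_nat q g).symm

theorem glue {NU : R} {N' : S'} (δ : q.jpst.obj N' ≅ q.gst.obj NU) {N : S}
    (a : N ⟶ q.jls.obj NU ⊞ q.fls.obj N') (d : q.fls.obj (q.jpls.obj (q.gst.obj NU)) ⟶ N⟦(1 : ℤ)⟧)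
    (hT : Triangle.mk a (biprod.desc (etaF q (q.jls.obj NU) ≫ q.fls.map (q.bc2App NU))
      (-(q.fls.map (q.adjJp.unit.app N' ≫ q.jpls.map δ.hom)))) d ∈ distTriang S) :
    IsIso ((q.adjJ.homEquiv N NU).symm (a ≫ biprod.fst)) ∧
      IsIso ((q.adjF.homEquiv N N').symm (a ≫ biprod.snd)) := by
  let A := q.jls.obj NU
  let η' := q.adjJp.unit.app N' ≫ q.jpls.map δ.hom
  let p : A ⟶ q.fls.obj (q.jpls.obj (q.gst.obj NU)) := uF A ≫ q.fls.map (q.bc2App NU)
  let c : q.fls.obj N' ⟶ q.fls.obj (q.jpls.obj (q.gst.obj NU)) := -(q.fls.map η')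
  haveI : IsIso (q.jpst.map η') := by
    haveI := isIso_jpst_unit q hq N'
    simp only [η', Functor.map_comp]; infer_instance
  haveI hc : IsIso (q.jst.map c) := by
    haveI := isIso_jst_fls q hq.isIso_bcApp η'
    simp only [c, Functor.map_neg]
    exact ⟨-inv (q.jst.map (q.fls.map η')), by simp, by simp⟩
  have hj1 : IsIso (q.jst.map (a ≫ biprod.fst)) := by
    have hjT : Triangle.mk (q.jst.map a) (q.jst.map (biprod.desc p c))
        (q.jst.map d ≫ (q.jst.commShiftIso (1 : ℤ)).hom.app N) ∈ distTriang R :=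
      q.jst.map_distinguished _ hT
    have hcd : q.jst.map biprod.inr ≫ q.jst.map (biprod.desc p c) = q.jst.map c := by
      rw [← Functor.map_comp, biprod.inr_desc]
    haveI : Epi (q.jst.map (biprod.desc p c)) :=
      SplitEpi.epi ⟨inv (q.jst.map c) ≫ q.jst.map biprod.inr,
        by rw [assoc, hcd, IsIso.inv_hom_id]⟩
    haveI hmono : Mono (q.jst.map a) :=
      Triangle.mono₁ _ hjT (Triangle.mor₃_eq_zero_of_epi₂ _ hjT
        (show Epi (q.jst.map (biprod.desc p c)) from inferInstance))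
    have htot : q.jst.map (biprod.fst : A ⊞ q.fls.obj N' ⟶ _) ≫ q.jst.map biprod.inl +
        q.jst.map biprod.snd ≫ q.jst.map biprod.inr = 𝟙 _ := by
      rw [← Functor.map_comp, ← Functor.map_comp, ← Functor.map_add, biprod.total,
        CategoryTheory.Functor.map_id]
    haveI : Mono (q.jst.map (a ≫ biprod.fst)) := by
      refine Preadditive.mono_of_cancel_zero _ fun {Z} z hz => ?_
      rw [Functor.map_comp] at hz
      have h1 : z ≫ q.jst.map a = (z ≫ q.jst.map a ≫ q.jst.map biprod.snd) ≫ q.jst.map biprod.inr := by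
        conv_lhs => rw [← comp_id (z ≫ q.jst.map a), ← htot, Preadditive.comp_add]
        simp only [assoc]
        rw [reassoc_of% hz, zero_comp, zero_add]
      have h2 : (z ≫ q.jst.map a ≫ q.jst.map biprod.snd) ≫ q.jst.map c = 0 := by
        have h0 : (z ≫ q.jst.map a) ≫ q.jst.map (biprod.desc p c) = 0 := by
          rw [assoc, show q.jst.map a ≫ q.jst.map (biprod.desc p c) = 0 from
            comp_distTriang_mor_zero₁₂ _ hjT, comp_zero]
        rw [h1, assoc, hcd] at h0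
        exact h0
      rw [← cancel_mono (q.jst.map a), zero_comp, h1, (cancel_mono (q.jst.map c)).1
        (h2.trans zero_comp.symm), zero_comp]
    let s := q.jst.map (biprod.inl : A ⟶ A ⊞ q.fls.obj N') -
      q.jst.map p ≫ inv (q.jst.map c) ≫ q.jst.map biprod.inr
    have hs : s ≫ q.jst.map (biprod.desc p c) = 0 := by
      simp only [s, Preadditive.sub_comp, assoc, hcd, IsIso.inv_hom_id, comp_id]
      rw [← Functor.map_comp, biprod.inl_desc, sub_self]
    obtain ⟨r, hr⟩ := Triangle.coyoneda_exact₂ _ hjT s hs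
    have hr1 : r ≫ q.jst.map (a ≫ biprod.fst) = 𝟙 _ := by
      rw [Functor.map_comp, ← assoc, show r ≫ q.jst.map a = s from hr.symm]
      simp only [s, Preadditive.sub_comp, assoc, ← Functor.map_comp, biprod.inl_fst, biprod.inr_fst,
        Functor.map_zero, comp_zero, sub_zero]
      rw [show (biprod.inl : A ⟶ A ⊞ q.fls.obj N') ≫ biprod.fst = 𝟙 A from biprod.inl_fst,
        CategoryTheory.Functor.map_id]
    exact ⟨r, by rw [← cancel_mono (q.jst.map (a ≫ biprod.fst)), assoc, hr1, comp_id, id_comp], hr1⟩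
  let ψ₁ := (q.adjJ.homEquiv N NU).symm (a ≫ biprod.fst)
  haveI hψ₁ : IsIso ψ₁ := by
    haveI := hq.isIso_counitJ
    haveI := hj1
    simp only [ψ₁, Adjunction.homEquiv_counit]; infer_instance
  let ψ₂ := (q.adjF.homEquiv N N').symm (a ≫ biprod.snd)
  have ha1 : uJ N ≫ q.jls.map ψ₁ = a ≫ biprod.fst := by
    rw [← homEquivJ]; exact Equiv.apply_symm_apply _ _
  have ha2 : uF N ≫ q.fls.map ψ₂ = a ≫ biprod.snd := by
    rw [← homEquivF]; exact Equiv.apply_symm_apply _ _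
  have hrel : q.fst.map (uJ N) ≫ q.fst.map (q.jls.map ψ₁) ≫ q.bc2App NU = ψ₂ ≫ η' := by
    have h0 : a ≫ biprod.desc p c = 0 := comp_distTriang_mor_zero₁₂ _ hT
    rw [show a ≫ biprod.desc p c = (a ≫ biprod.fst) ≫ p + (a ≫ biprod.snd) ≫ c by
      simp [biprod.desc_eq], ← ha1, ← ha2] at h0
    simp only [p, c, Preadditive.comp_neg, ← sub_eq_add_neg, sub_eq_zero, assoc] at h0
    apply (q.adjF.homEquiv _ _).injective
    simp only [homEquivF, Functor.map_comp]
    have h3 := etaF_nat q (uJ N ≫ q.jls.map ψ₁)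
    simp only [Functor.map_comp, assoc] at h3
    rw [reassoc_of% h3] at h0
    exact h0
  refine ⟨hψ₁, ?_⟩
  obtain ⟨d₁, hd₁⟩ := exists_mv q hq N
  let m := biprod.map (q.jls.map ψ₁) (q.fls.map ψ₂)
  obtain ⟨t, ht₁, ht₂⟩ := complete_distinguished_triangle_morphism _ _ hd₁ hT (𝟙 N) m (by
    dsimp [m]; apply biprod.hom_ext <;> simp [ha1, ha2] <;> exact (id_comp _).symm)
  let z := q.fls.map (q.fst.map (q.jls.map ψ₁)) ≫ q.fls.map (q.bc2App NU)
  haveI := hq.isIso_bc2App NU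
  have ht : t = z := by
    have h := congrArg (fun z => biprod.inr ≫ z) ht₁
    simp only [Triangle.mk_mor₂, biprod.inr_desc_assoc, m, biprod.inr_map_assoc, biprod.inr_desc,
      Preadditive.neg_comp, Preadditive.comp_neg, neg_inj] at h
    rw [← Functor.map_comp, ← hrel] at h
    simp only [Functor.map_comp] at h
    have key : t ≫ q.fls.map (inv (q.bc2App NU)) = q.fls.map (q.fst.map (q.jls.map ψ₁)) := by
      refine ext_from_ff q hq ?_
      rw [reassoc_of% h, ← Functor.map_comp, IsIso.hom_inv_id, CategoryTheory.Functor.map_id, comp_id]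
    rw [← cancel_mono (q.fls.map (inv (q.bc2App NU))), key]
    simp [z, ← Functor.map_comp]
  haveI : IsIso t := by rw [ht]; simp only [z]; infer_instance
  let φ : Triangle.mk _ _ d₁ ⟶ Triangle.mk a _ d :=
    { hom₁ := 𝟙 N, hom₂ := m, hom₃ := t, comm₁ := by
        dsimp [m]; apply biprod.hom_ext <;> simp [ha1, ha2] <;> exact (id_comp _).symm
      comm₂ := ht₁, comm₃ := ht₂ }
  haveI hm : IsIso m := isIso₂_of_isIso₁₃ φ hd₁ hT (inferInstanceAs (IsIso (𝟙 N))) ‹IsIso t›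
  haveI : IsIso (q.fls.map ψ₂) := by
    refine ⟨biprod.inr ≫ inv m ≫ biprod.snd, ?_, ?_⟩
    · have : q.fls.map ψ₂ ≫ biprod.inr = biprod.inr ≫ m := by simp [m]
      rw [reassoc_of% this, IsIso.hom_inv_id_assoc, biprod.inr_snd]
    · have : biprod.snd ≫ q.fls.map ψ₂ = m ≫ biprod.snd := by simp [m]
      rw [assoc, assoc, this, IsIso.inv_hom_id_assoc, biprod.inr_snd]
  haveI : IsIso (q.jpst.map ψ₂) := by
    haveI := isIso_jst_etaJ q hq N
    haveI := isIso_jpst_fst q (uJ N)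
    haveI := isIso_jpst_fst q (q.jls.map ψ₁)
    have : IsIso (q.jpst.map ψ₂ ≫ q.jpst.map η') := by
      rw [← Functor.map_comp, ← hrel, Functor.map_comp, Functor.map_comp]
      infer_instance
    exact IsIso.of_isIso_comp_right _ (q.jpst.map η')
  letI := q.adjF.rightAdjointCommShift ℤ
  haveI := q.adjF.commShift_of_leftAdjoint ℤ
  haveI : q.fls.IsTriangulated := q.adjF.isTriangulated_rightAdjoint
  obtain ⟨W, x, y, hW⟩ := distinguished_cocone_triangle ψ₂
  have h1 : IsZero (q.jpst.obj W) :=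
    (Triangle.isZero₃_iff_isIso₁ _ (q.jpst.map_distinguished _ hW)).2
      (inferInstanceAs (IsIso (q.jpst.map ψ₂)))
  have h2 : IsZero (q.fls.obj W) :=
    (Triangle.isZero₃_iff_isIso₁ _ (q.fls.map_distinguished _ hW)).2
      (inferInstanceAs (IsIso (q.fls.map ψ₂)))
  haveI := hq.isIso_counitF W h1
  exact (Triangle.isZero₃_iff_isIso₁ _ hW).1
    ((q.fst.map_isZero h2).of_iso (asIso (q.adjF.counit.app W)).symm)

end Triangulated

omit [Category.{v} S] in
theorem generates_kernel [Category.{v} S] [Preadditive S] [Preadditive S'] [HasShift S ℤ]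
    [HasShift S' ℤ] [Preadditive R] [Preadditive R'] (q : W4c3perfectstacks.MVSq S S' R R')
    [q.fls.CommShift ℤ] [q.fst.Additive]
    (hbc : ∀ M : S', IsIso (q.bcApp M)) (fuc : S ⥤ S') (adjX : q.fls ⊣ fuc)
    (hX : ∀ N : S, IsZero (q.jst.obj N) → IsZero (q.jpst.obj (fuc.obj N)))
    (hcons : ∀ N : S, IsZero (fuc.obj N) → IsZero N) {ι : Type*} (B' : ι → S')
    (hB'ker : ∀ b, IsZero (q.jpst.obj (B' b)))
    (hB'gen : ∀ M : S', IsZero (q.jpst.obj M) →
      (∀ (b : ι) (n : ℤ) (g : (B' b)⟦n⟧ ⟶ M), g = 0) → IsZero M) :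
    (∀ b, IsZero (q.jst.obj (q.fls.obj (B' b)))) ∧
      ∀ N : S, IsZero (q.jst.obj N) →
        (∀ (b : ι) (n : ℤ) (g : (q.fls.obj (B' b))⟦n⟧ ⟶ N), g = 0) → IsZero N := by
  refine ⟨fun b => ?_, fun N hN h => hcons N (hB'gen _ (hX N hN) fun b n g => ?_)⟩
  · haveI := hbc (B' b)
    exact IsZero.of_iso (isZero_gls q (hB'ker b)) (asIso (q.bcApp (B' b)))
  · apply (adjX.homEquiv _ _).symm.injective
    haveI := q.adjF.right_adjoint_additive
    haveI := adjX.right_adjoint_additive (F := q.fls)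
    rw [← cancel_epi ((q.fls.commShiftIso n).inv.app (B' b))]
    exact (h b n _).trans (h b n _).symm

end Groth.Agent.MVSqLib
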