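import Groth.Agent.MVSqLib.Basic
import Groth.Agent.CohDerTri.Compact

/-!
Compactness is local for Mayer–Vietoris squares of triangulated categories.
-/

set_option autoImplicit false
set_option linter.style.haveILetI false
set_option linter.unusedSectionVars false
set_option backward.isDefEq.respectTransparency false
set_option backward.isDefEq.respectTransparency.types false

universe v u

open CategoryTheory Category Limits Pretriangulated CohDer
open Groth.Agent.CohDerTri (homSum_of)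

namespace Groth.Agent.MVSqLib

section Sum

variable {S : Type u} [Category.{v} S] [Preadditive S] [HasCoproducts.{v} S]
  {ι : Type v} (X : ι → S)

/-- The comparison map of `Hom(K, G (X i))` with `Hom(K, G (∐ X))`. -/
noncomputable def sumTo (G : S ⥤ S) (K : S) :
    DirectSum ι (fun i => K ⟶ G.obj (X i)) →+ (K ⟶ G.obj (∐ X)) :=
  haveI := Classical.decEq ι
  DirectSum.toAddMonoid fun i => Preadditive.rightComp K (G.map (Sigma.ι X i))

theorem sumTo_of [DecidableEq ι] (G : S ⥤ S) (K : S) (i : ι) (f : K ⟶ G.obj (X i)) :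
    sumTo X G K (DirectSum.of (fun i => K ⟶ G.obj (X i)) i f) = f ≫ G.map (Sigma.ι X i) := by
  simp only [sumTo]
  convert DirectSum.toAddMonoid_of (fun i => Preadditive.rightComp K (G.map (Sigma.ι X i))) i f
  rfl

/-- Postcomposition on direct sums of groups of morphisms. -/
noncomputable def postSum {K : S} (G G' : S ⥤ S) (α : ∀ i, G.obj (X i) ⟶ G'.obj (X i)) :
    DirectSum ι (fun i => K ⟶ G.obj (X i)) →+ DirectSum ι (fun i => K ⟶ G'.obj (X i)) :=
  DirectSum.map fun i => Preadditive.rightComp K (α i)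

theorem postSum_apply {K : S} (G G' : S ⥤ S) (α : ∀ i, G.obj (X i) ⟶ G'.obj (X i))
    (x : DirectSum ι (fun i => K ⟶ G.obj (X i))) (i : ι) :
    postSum X G G' α x i = x i ≫ α i := by
  simp [postSum]; rfl

theorem sumTo_post {K : S} (G G' : S ⥤ S) (α : ∀ i, G.obj (X i) ⟶ G'.obj (X i))
    (αc : G.obj (∐ X) ⟶ G'.obj (∐ X))
    (h : ∀ i, α i ≫ G'.map (Sigma.ι X i) = G.map (Sigma.ι X i) ≫ αc)
    (x : DirectSum ι (fun i => K ⟶ G.obj (X i))) :
    sumTo X G' K (postSum X G G' α x) = sumTo X G K x ≫ αc := by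
  classical
  induction x using DirectSum.induction_on with
  | zero => simp
  | of i f =>
    rw [postSum, DirectSum.map_of, sumTo_of, sumTo_of]
    change (f ≫ α i) ≫ _ = _
    rw [assoc, assoc, h]
  | add x y hx hy => simp only [map_add, hx, hy, Preadditive.add_comp]

theorem exists_of_forall {K : S} (G : S ⥤ S) (p : ∀ i, (K ⟶ G.obj (X i)) → Prop)
    (P : Finset ι) (h0 : ∀ i ∉ P, p i 0) (h : ∀ i ∈ P, ∃ y, p i y) :
    ∃ y : DirectSum ι (fun i => K ⟶ G.obj (X i)), ∀ i, p i (y i) := by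
  classical
  choose y hy using h
  refine ⟨DirectSum.mk _ P fun i => y i.1 i.2, fun i => ?_⟩
  by_cases hi : i ∈ P
  · rw [DirectSum.mk_apply_of_mem hi]; exact hy i hi
  · rw [DirectSum.mk_apply_of_notMem hi]; exact h0 i hi

theorem sumTo_id {K : S} (x : DirectSum ι (fun i => K ⟶ (𝟭 S).obj (X i))) :
    sumTo X (𝟭 S) K x = homSumToHomCoprod K X x := by
  classical
  induction x using DirectSum.induction_on with
  | zero => exact (map_zero _).trans (map_zero _).symm
  | of i f => exact (sumTo_of X (𝟭 S) K i f).trans (homSum_of K X i f).symm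
  | add x y hx hy =>
    rw [map_add, hx, hy]
    exact (map_add (homSumToHomCoprod K X) x y).symm

theorem sumTo_shift [HasShift S ℤ] [∀ n : ℤ, (shiftFunctor S n).Additive] (N : S)
    (x : DirectSum ι (fun i => N ⟶ (𝟭 S).obj (X i))) :
    sumTo X (shiftFunctor S (1 : ℤ)) (N⟦(1 : ℤ)⟧)
      (DirectSum.map (fun _ => (shiftFunctor S (1 : ℤ)).mapAddHom) x) =
      (sumTo X (𝟭 S) N x)⟦(1 : ℤ)⟧' := by
  classical
  induction x using DirectSum.induction_on with
  | zero =>
    exact ((congrArg _ (map_zero _)).trans (map_zero _)).trans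
      ((congrArg (fun z => (shiftFunctor S (1 : ℤ)).map z) (map_zero _)).trans
        (Functor.map_zero _ _ _)).symm
  | of i f =>
    erw [DirectSum.map_of, sumTo_of, sumTo_of]
    exact ((shiftFunctor S (1 : ℤ)).map_comp _ _).symm
  | add x y hx hy => simp only [map_add, hx, hy, Functor.map_add]

theorem sumTo_adjunction_bijective {D : Type u} [Category.{v} D] [Preadditive D]
    [HasCoproducts.{v} D] {L : S ⥤ D} {R : D ⥤ S} [L.Additive] (adj : L ⊣ R) {K : S}
    (hK : IsCompactObject (L.obj K)) : Function.Bijective (sumTo X (L ⋙ R) K) := by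
  classical
  haveI := adj.leftAdjoint_preservesColimits
  let e : DirectSum ι (fun i => L.obj K ⟶ L.obj (X i)) ≃+
      DirectSum ι (fun i => K ⟶ (L ⋙ R).obj (X i)) :=
    DFinsupp.mapRange.addEquiv fun i => adj.homAddEquiv K (L.obj (X i))
  have key : ∀ x, sumTo X (L ⋙ R) K (e x) = adj.homAddEquiv K (L.obj (∐ X))
      (homSumToHomCoprod (L.obj K) (fun i => L.obj (X i)) x ≫ sigmaComparison L X) := by
    intro x
    induction x using DirectSum.induction_on with
    | zero => rw [map_zero e, map_zero]; simp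
    | of i f =>
      have he : e (DirectSum.of _ i f) =
          DirectSum.of (fun i => K ⟶ (L ⋙ R).obj (X i)) i (adj.homAddEquiv K _ f) :=
        DFinsupp.mapRange_single (hf := fun j => map_zero (adj.homAddEquiv K (L.obj (X j))))
      rw [he, sumTo_of, homSum_of, assoc, ι_comp_sigmaComparison, Adjunction.homAddEquiv_apply,
        Adjunction.homAddEquiv_apply, Adjunction.homEquiv_naturality_right]
      rfl
    | add x y hx hy => simp only [map_add, hx, hy, Preadditive.add_comp]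
  have : (sumTo X (L ⋙ R) K : _ → _) = (adj.homAddEquiv K (L.obj (∐ X))) ∘
      (fun z => z ≫ sigmaComparison L X) ∘ (homSumToHomCoprod (L.obj K) fun i => L.obj (X i)) ∘
      e.symm := by
    funext x
    rw [← e.apply_symm_apply x, key]
    simp
  rw [this]
  exact (AddEquiv.bijective _).comp (((asIso (sigmaComparison L X)).homToEquiv.bijective).comp
    ((hK ι _).comp e.symm.bijective))

theorem sumTo_bijective_of_iso {K : S} {G G' : S ⥤ S} (e : G ≅ G')
    (h : Function.Bijective (sumTo X G' K)) : Function.Bijective (sumTo X G K) := by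
  refine ⟨fun x y hxy => ?_, fun v => ?_⟩
  · have h2 : postSum X G G' (fun i => e.hom.app (X i)) x = postSum X G G' (fun i => e.hom.app (X i)) y :=
      h.1 (by rw [sumTo_post X G G' _ (e.hom.app _) (fun i => (e.hom.naturality _).symm),
        sumTo_post X G G' _ (e.hom.app _) (fun i => (e.hom.naturality _).symm), hxy])
    refine DFinsupp.ext fun i => ?_
    have := congrArg (fun z => z i) h2
    simp only [postSum_apply] at this
    exact (cancel_mono _).1 this
  · obtain ⟨x, hx⟩ := h.2 (v ≫ e.hom.app _)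
    refine ⟨postSum X G' G (fun i => e.inv.app (X i)) x, ?_⟩
    rw [sumTo_post X G' G _ (e.inv.app _) (fun i => (e.inv.naturality _).symm), hx, assoc,
      Iso.hom_inv_id_app, comp_id]

end Sum

variable {S S' R R' : Type u} [Category.{v} S] [Category.{v} S'] [Category.{v} R] [Category.{v} R']
variable [Preadditive S] [Preadditive S'] [Preadditive R] [Preadditive R'] [HasZeroObject S]
  [HasZeroObject S'] [HasZeroObject R] [HasZeroObject R'] [HasShift S ℤ] [HasShift S' ℤ]
  [HasShift R ℤ] [HasShift R' ℤ] [∀ n : ℤ, (shiftFunctor S n).Additive]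
  [∀ n : ℤ, (shiftFunctor S' n).Additive] [∀ n : ℤ, (shiftFunctor R n).Additive]
  [∀ n : ℤ, (shiftFunctor R' n).Additive] [Pretriangulated S] [Pretriangulated S']
  [Pretriangulated R] [Pretriangulated R'] [IsTriangulated S]
  [HasCoproducts.{v} S] [HasCoproducts.{v} S'] [HasCoproducts.{v} R] [HasCoproducts.{v} R']
  (q : W4c3perfectstacks.MVSq S S' R R') [q.jst.CommShift ℤ] [q.fst.CommShift ℤ]
  [q.jpst.CommShift ℤ] [q.gst.CommShift ℤ] [q.jst.IsTriangulated] [q.fst.IsTriangulated]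
  [q.jpst.IsTriangulated] [q.gst.IsTriangulated] (hq : q.IsMV)

omit [Preadditive S] [Preadditive S'] [Preadditive R] [Preadditive R'] in
theorem bc2App_natural {P P' : R} (p : P ⟶ P') :
    q.fst.map (q.jls.map p) ≫ q.bc2App P' = q.bc2App P ≫ q.jpls.map (q.gst.map p) := by
  have h1 := q.adjJp.unit.naturality (q.fst.map (q.jls.map p))
  have h2 := q.e.inv.naturality (q.jls.map p)
  simp only [Functor.id_map, Functor.comp_map] at h1 h2
  simp only [W4c3perfectstacks.MVSq.bc2App, assoc, ← Functor.map_comp]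
  rw [reassoc_of% h1]
  simp only [← Functor.map_comp]
  rw [reassoc_of% h2]
  simp only [← Functor.map_comp, Adjunction.counit_naturality]

/-- The third term as a composite with a single left adjoint. -/
noncomputable def thirdNatIso : (q.jst ⋙ q.jls) ⋙ (q.fst ⋙ q.fls) ≅
    (q.jst ⋙ q.gst) ⋙ (q.gls ⋙ q.jls) :=
  haveI := fun X => hq.isIso_bc2App X
  NatIso.ofComponents (F := (q.jst ⋙ q.jls) ⋙ q.fst ⋙ q.fls)
      (G := (q.jst ⋙ q.gst) ⋙ q.jpls ⋙ q.fls) (fun Y => q.fls.mapIso (asIso (q.bc2App (q.jst.obj Y))))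
    (fun φ => by
      simp only [Functor.mapIso_hom, asIso_hom, Functor.comp_map, ← Functor.map_comp,
        bc2App_natural]) ≪≫
    Functor.isoWhiskerLeft (q.jst ⋙ q.gst)
      (Adjunction.rightAdjointUniq (q.adjF.comp q.adjJp) ((q.adjJ.comp q.adjG).ofNatIsoLeft q.e))

theorem compact_restrictions_shift {N : S} (hU : IsCompactObject (q.jst.obj N))
    (hX' : IsCompactObject (q.fst.obj N)) (hU' : IsCompactObject (q.gst.obj (q.jst.obj N))) (n : ℤ) :
    IsCompactObject (q.jst.obj (N⟦n⟧)) ∧ IsCompactObject (q.fst.obj (N⟦n⟧)) ∧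
      IsCompactObject (q.gst.obj (q.jst.obj (N⟦n⟧))) :=
  ⟨CohDerTri.isCompactObject_of_iso ((q.jst.commShiftIso n).app N).symm
      (CohDerTri.isCompactObject_shift hU n),
    CohDerTri.isCompactObject_of_iso ((q.fst.commShiftIso n).app N).symm
      (CohDerTri.isCompactObject_shift hX' n),
    CohDerTri.isCompactObject_of_iso (((q.jst ⋙ q.gst).commShiftIso n).app N).symm
      (CohDerTri.isCompactObject_shift hU' n)⟩

include hq in
theorem isCompactObject_of_restrictions (N : S) (hU : IsCompactObject (q.jst.obj N))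
    (hX' : IsCompactObject (q.fst.obj N)) (hU' : IsCompactObject (q.gst.obj (q.jst.obj N))) :
    IsCompactObject N := by
  classical
  intro ι X
  let G₁ := q.jst ⋙ q.jls
  let G₂ := q.fst ⋙ q.fls
  let G₃ := (q.jst ⋙ q.jls) ⋙ (q.fst ⋙ q.fls)
  have hb : ∀ n : ℤ, Function.Bijective (sumTo X G₁ (N⟦n⟧)) ∧
      Function.Bijective (sumTo X G₂ (N⟦n⟧)) ∧ Function.Bijective (sumTo X G₃ (N⟦n⟧)) := fun n =>
    have h := compact_restrictions_shift q hU hX' hU' n
    ⟨sumTo_adjunction_bijective X q.adjJ h.1, sumTo_adjunction_bijective X q.adjF h.2.1,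
      sumTo_bijective_of_iso X (thirdNatIso q hq)
        (sumTo_adjunction_bijective X (q.adjJ.comp q.adjG) h.2.2)⟩
  have hb₀ : Function.Bijective (sumTo X G₁ N) ∧
      Function.Bijective (sumTo X G₂ N) ∧ Function.Bijective (sumTo X G₃ N) :=
    ⟨sumTo_adjunction_bijective X q.adjJ hU, sumTo_adjunction_bijective X q.adjF hX',
      sumTo_bijective_of_iso X (thirdNatIso q hq)
        (sumTo_adjunction_bijective X (q.adjJ.comp q.adjG) hU')⟩
  choose d hd using exists_mv q hq
  let α : ∀ Y, G₁.obj Y ⟶ G₃.obj Y := fun Y => etaF q (q.jls.obj (q.jst.obj Y))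
  let β : ∀ Y, G₂.obj Y ⟶ G₃.obj Y := fun Y => -(q.fls.map (q.fst.map (etaJ q Y)))
  have hα : ∀ i, α (X i) ≫ G₃.map (Sigma.ι X i) = G₁.map (Sigma.ι X i) ≫ α (∐ X) := fun i =>
    (etaF_nat q (q.jls.map (q.jst.map (Sigma.ι X i)))).symm
  have hβ : ∀ i, β (X i) ≫ G₃.map (Sigma.ι X i) = G₂.map (Sigma.ι X i) ≫ β (∐ X) := fun i => by
    simp only [β, G₂, G₃, Functor.comp_map, Preadditive.neg_comp, Preadditive.comp_neg,
      ← Functor.map_comp, etaJ_nat]
  have hJ : ∀ i, etaJ q (X i) ≫ G₁.map (Sigma.ι X i) = (𝟭 S).map (Sigma.ι X i) ≫ etaJ q (∐ X) :=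
    fun i => (etaJ_nat q (Sigma.ι X i)).symm
  have hF : ∀ i, etaF q (X i) ≫ G₂.map (Sigma.ι X i) = (𝟭 S).map (Sigma.ι X i) ≫ etaF q (∐ X) :=
    fun i => (etaF_nat q (Sigma.ι X i)).symm
  have hz : ∀ Y, biprod.lift (etaJ q Y) (etaF q Y) ≫ biprod.desc (α Y) (β Y) = 0 := fun Y =>
    comp_distTriang_mor_zero₁₂ _ (hd Y)
  constructor
  · refine (injective_iff_map_eq_zero _).2 fun x hx => ?_
    rw [← sumTo_id] at hx
    have h1 : ∀ i, x i ≫ etaJ q (X i) = 0 := fun i => by
      have h := hb₀.1.1 (a₁ := postSum X (𝟭 S) G₁ (fun i => etaJ q (X i)) x) (a₂ := 0)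
        (by rw [sumTo_post X (𝟭 S) G₁ _ _ hJ, hx, zero_comp, map_zero])
      exact (postSum_apply X (𝟭 S) G₁ (fun i => etaJ q (X i)) x i).symm.trans (congrArg (fun z => z i) h)
    have h2 : ∀ i, x i ≫ etaF q (X i) = 0 := fun i => by
      have h := hb₀.2.1.1 (a₁ := postSum X (𝟭 S) G₂ (fun i => etaF q (X i)) x) (a₂ := 0)
        (by rw [sumTo_post X (𝟭 S) G₂ _ _ hF, hx, zero_comp, map_zero])
      exact (postSum_apply X (𝟭 S) G₂ (fun i => etaF q (X i)) x i).symm.trans (congrArg (fun z => z i) h)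
    have hlift : ∀ i, x i ≫ biprod.lift (etaJ q (X i)) (etaF q (X i)) = 0 := fun i => by
      apply biprod.hom_ext <;> simp [h1, h2]
    obtain ⟨s, hs⟩ := exists_of_forall X G₃ (K := N⟦(1 : ℤ)⟧)
      (fun i y => y ≫ d (X i) = (x i)⟦(1 : ℤ)⟧') (DFinsupp.support x)
      (fun i hi => by rw [zero_comp, DFinsupp.notMem_support_iff.1 hi, Functor.map_zero])
      (fun i _ => by
        obtain ⟨y, hy⟩ : ∃ y : N⟦(1 : ℤ)⟧ ⟶ G₃.obj (X i), (x i)⟦(1 : ℤ)⟧' = y ≫ d (X i) :=
          Triangle.coyoneda_exact₁ _ (hd (X i)) ((x i)⟦(1 : ℤ)⟧')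
          (by change _ ≫ (biprod.lift (etaJ q (X i)) (etaF q (X i)))⟦(1 : ℤ)⟧' = 0
              rw [← Functor.map_comp, hlift, Functor.map_zero])
        exact ⟨y, hy.symm⟩)
    -- the image of `s` comes from the middle term
    have hsd : sumTo X G₃ (N⟦(1 : ℤ)⟧) s ≫ d (∐ X) = 0 := by
      rw [← sumTo_post X G₃ (shiftFunctor S (1 : ℤ)) (fun i => d (X i)) (d _)
        (fun i => mv_hom_eq q hq (Sigma.ι X i) (hd _) (hd _)) s]
      rw [show postSum X G₃ (shiftFunctor S (1 : ℤ)) (fun i => d (X i)) s =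
        DirectSum.map (fun i => (shiftFunctor S (1 : ℤ)).mapAddHom) x from DFinsupp.ext fun i => by
          rw [postSum_apply, hs]; simp]
      rw [show sumTo X (shiftFunctor S (1 : ℤ)) (N⟦(1 : ℤ)⟧)
          (DirectSum.map (fun i => (shiftFunctor S (1 : ℤ)).mapAddHom) x) =
          (sumTo X (𝟭 S) N x)⟦(1 : ℤ)⟧' from ?_, hx, Functor.map_zero]
      exact sumTo_shift X N x
    obtain ⟨t, ht⟩ := Triangle.coyoneda_exact₃ _ (hd (∐ X)) _ hsd
    replace ht : sumTo X G₃ (N⟦(1 : ℤ)⟧) s = t ≫ biprod.desc (α (∐ X)) (β (∐ X)) := ht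
    obtain ⟨a, ha⟩ := (hb 1).1.2 (t ≫ biprod.fst)
    obtain ⟨b, hb'⟩ := (hb 1).2.1.2 (t ≫ biprod.snd)
    have hs' : s = postSum X G₁ G₃ (fun i => α (X i)) a + postSum X G₂ G₃ (fun i => β (X i)) b := by
      apply (hb 1).2.2.1
      rw [map_add, sumTo_post X G₁ G₃ _ _ hα, sumTo_post X G₂ G₃ _ _ hβ, ha, hb', ht,
        biprod.desc_eq, Preadditive.comp_add, assoc, assoc]
    refine DFinsupp.ext fun i => ?_
    apply (shiftFunctor S (1 : ℤ)).map_injective
    rw [← hs i, hs', DirectSum.add_apply, postSum_apply, postSum_apply]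
    have hzero : biprod.desc (α (X i)) (β (X i)) ≫ d (X i) = 0 :=
      comp_distTriang_mor_zero₂₃ _ (hd (X i))
    have e1 : α (X i) ≫ d (X i) = 0 := by
      rw [← biprod.inl_desc (α (X i)) (β (X i)), assoc, hzero, comp_zero]
    have e2 : β (X i) ≫ d (X i) = 0 := by
      rw [← biprod.inr_desc (α (X i)) (β (X i)), assoc, hzero, comp_zero]
    rw [Preadditive.add_comp, assoc, assoc, e1, e2, comp_zero, comp_zero, add_zero]
    exact (Functor.map_zero _ _ _).symm
  · intro v
    obtain ⟨a, ha⟩ := hb₀.1.2 (v ≫ etaJ q (∐ X))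
    obtain ⟨b, hb'⟩ := hb₀.2.1.2 (v ≫ etaF q (∐ X))
    have hab : postSum X G₁ G₃ (fun i => α (X i)) a + postSum X G₂ G₃ (fun i => β (X i)) b = 0 := by
      apply hb₀.2.2.1
      rw [map_add, map_zero, sumTo_post X G₁ G₃ _ _ hα, sumTo_post X G₂ G₃ _ _ hβ, ha, hb', assoc,
        assoc, ← Preadditive.comp_add, ← biprod.lift_desc]
      exact (congrArg (v ≫ ·) (hz _)).trans comp_zero
    obtain ⟨c, hc⟩ := exists_of_forall X (𝟭 S) (K := N)
      (fun i y => y ≫ etaJ q (X i) = a i ∧ y ≫ etaF q (X i) = b i)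
      (DFinsupp.support a ∪ DFinsupp.support b)
      (fun i hi => by
        rw [Finset.notMem_union, DFinsupp.notMem_support_iff, DFinsupp.notMem_support_iff] at hi
        rw [hi.1, hi.2]; exact ⟨zero_comp, zero_comp⟩)
      (fun i _ => by
        have h0 : biprod.lift (a i) (b i) ≫ biprod.desc (α (X i)) (β (X i)) = 0 := by
          rw [biprod.lift_desc]
          have := congrArg (fun z => z i) hab
          simpa [postSum_apply, DirectSum.add_apply] using this
        obtain ⟨y, hy⟩ := Triangle.coyoneda_exact₂ _ (hd (X i)) (biprod.lift (a i) (b i)) h0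
        replace hy : biprod.lift (a i) (b i) = y ≫ biprod.lift (etaJ q (X i)) (etaF q (X i)) := hy
        refine ⟨y, ?_, ?_⟩
        · rw [← biprod.lift_fst (a i) (b i), hy, assoc]
          exact congrArg (y ≫ ·) (biprod.lift_fst _ _).symm
        · rw [← biprod.lift_snd (a i) (b i), hy, assoc]
          exact congrArg (y ≫ ·) (biprod.lift_snd _ _).symm)
    let r : N ⟶ ∐ X := @HSub.hSub (N ⟶ ∐ X) (N ⟶ ∐ X) (N ⟶ ∐ X) _ v (sumTo X (𝟭 S) N c)
    have hc1 : postSum X (𝟭 S) G₁ (fun i => etaJ q (X i)) c = a :=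
      DFinsupp.ext fun i => (postSum_apply _ _ _ _ _ _).trans (hc i).1
    have hc2 : postSum X (𝟭 S) G₂ (fun i => etaF q (X i)) c = b :=
      DFinsupp.ext fun i => (postSum_apply _ _ _ _ _ _).trans (hc i).2
    have hr : r ≫ biprod.lift (etaJ q (∐ X)) (etaF q (∐ X)) = 0 := by
      apply biprod.hom_ext
      · simp only [r, assoc, biprod.lift_fst, zero_comp, Preadditive.sub_comp]
        exact sub_eq_zero.2 (ha.symm.trans (by rw [← hc1, sumTo_post X (𝟭 S) G₁ _ _ hJ]))
      · simp only [r, assoc, biprod.lift_snd, zero_comp, Preadditive.sub_comp]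
        exact sub_eq_zero.2 (hb'.symm.trans (by rw [← hc2, sumTo_post X (𝟭 S) G₂ _ _ hF]))
    obtain ⟨s, hs⟩ := Triangle.coyoneda_exact₁ _ (hd (∐ X)) (r⟦(1 : ℤ)⟧')
      (by change _ ≫ (biprod.lift (etaJ q (∐ X)) (etaF q (∐ X)))⟦(1 : ℤ)⟧' = 0
          rw [← Functor.map_comp, hr, Functor.map_zero])
    replace hs : r⟦(1 : ℤ)⟧' = s ≫ d (∐ X) := hs
    obtain ⟨σ, rfl⟩ := (hb 1).2.2.2 s
    obtain ⟨e, he⟩ := exists_of_forall X (𝟭 S) (K := N)
      (fun i y => y⟦(1 : ℤ)⟧' = σ i ≫ d (X i)) (DFinsupp.support σ)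
      (fun i hi => by rw [DFinsupp.notMem_support_iff.1 hi, zero_comp]; exact Functor.map_zero _ _ _)
      (fun i _ => ⟨(shiftFunctor S (1 : ℤ)).preimage (σ i ≫ d (X i)), Functor.map_preimage _ _⟩)
    have hre : r = sumTo X (𝟭 S) N e := by
      apply (shiftFunctor S (1 : ℤ)).map_injective
      rw [hs, ← sumTo_shift X N e, ← sumTo_post X G₃ (shiftFunctor S (1 : ℤ)) (fun i => d (X i)) (d _)
        (fun i => mv_hom_eq q hq (Sigma.ι X i) (hd _) (hd _)) σ]
      exact congrArg _ (DFinsupp.ext fun i => by rw [postSum_apply, ← he i]; simp)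
    refine ⟨c + e, ?_⟩
    rw [← sumTo_id, map_add, ← hre]
    exact add_sub_cancel (G := N ⟶ ∐ X) (sumTo X (𝟭 S) N c) v

end Groth.Agent.MVSqLib
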